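import Cfsg.Agent.H337.HT.Num
import Cfsg.Agent.H912.ExcList
import Cfsg.Agent.H95.LSx.G23
import Cfsg.Agent.H95.LSx.F42
import Cfsg.Agent.H762.FineTools
import Cfsg.Agent.H915.LD
import Cfsg.Agent.S2121
import Cfsg.Agent.S2122
import Cfsg.Agent.S2123
import Cfsg.Agent.S2124
import Cfsg.Agent.S2125
import Cfsg.Agent.S1054
import Cfsg.Agent.S1055
import Cfsg.Agent.S1059
import Cfsg.Agent.S1062
import Cfsg.Agent.S1063
import Cfsg.Agent.S1064
import Cfsg.Agent.S1065

/-!
helper744 (task 4872, S3540 B7): exceptional Chevalley groups in cross characteristic, degree at least 13: `dead_chev`.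
-/

set_option autoImplicit false

namespace Cfsg.Agent.H744.HT

open Cfsg Cfsg.Agent.H203.LS Cfsg.Agent.H337.HT

universe u v w

/-- `2 ∣ o`, `3 ∣ o`: the first `q` is `5` -/
theorem five_le {o q : ℕ} (h2 : 2 ∣ o) (h3 : 3 ∣ o) (hq : 2 ≤ q) (hc : q.Coprime o) : 5 ≤ q := by
  have h2' : q.Coprime 2 := hc.coprime_dvd_right h2
  have h3' : q.Coprime 3 := hc.coprime_dvd_right h3
  by_contra hlt
  have h : q = 2 ∨ q = 3 ∨ q = 4 := by omega
  rcases h with rfl | rfl | rfl
  · exact absurd h2' (by decide)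
  · exact absurd h3' (by decide)
  · exact absurd h2' (by decide)

theorem le_two_pow {s : ℕ} (hs : 1 ≤ s) : s ≤ 2 ^ (s - 1) := by
  have h := (Nat.lt_two_pow_self (n := s - 1))
  omega

/-- size, first `q` is `2` -/
theorem big_two {T : Type v} [Group T] [Finite T] {s N d n : ℕ} (hs : 2 ≤ s) (hd : d ≤ n)
    (h : 2 * N * (s - 1) + 1 ≤ d) (h2 : 2 ≤ d) (hA : Nat.card (MulAut T) ≤ s ^ N) : Dead n T := by
  refine dead_of_pow (b := 2) (by omega) (fun q hq _ => hq) ?_
  calc Nat.card (MulAut T) ^ 2 ≤ (s ^ N) ^ 2 := Nat.pow_le_pow_left hA 2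
    _ = s ^ (2 * N) := by rw [← pow_mul, mul_comm]
    _ ≤ (2 ^ (s - 1)) ^ (2 * N) := Nat.pow_le_pow_left (le_two_pow (by omega)) _
    _ = 2 ^ (2 * N * (s - 1)) := by rw [← pow_mul, mul_comm]
    _ ≤ 2 ^ (n - 2 + 1) := Nat.pow_le_pow_right (by norm_num) (by omega)
    _ = 2 * 2 ^ (n - 2) := by rw [pow_succ, mul_comm]

/-- size, first `q` is `5` -/
theorem big_five {T : Type v} [Group T] [Finite T] {s N d n : ℕ} (hs : 2 ≤ s) (hd : d ≤ n)
    (h : N * (s - 1) + 2 ≤ d) (hT2 : 2 ∣ Nat.card T) (hT3 : 3 ∣ Nat.card T)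
    (hA : Nat.card (MulAut T) ≤ s ^ N) : Dead n T := by
  refine dead_of_pow (b := 5) (by omega) (fun q hq hc => five_le hT2 hT3 hq hc) ?_
  calc Nat.card (MulAut T) ^ 2 ≤ (s ^ N) ^ 2 := Nat.pow_le_pow_left hA 2
    _ = s ^ (2 * N) := by rw [← pow_mul, mul_comm]
    _ ≤ (2 ^ (s - 1)) ^ (2 * N) := Nat.pow_le_pow_left (le_two_pow (by omega)) _
    _ = 4 ^ (N * (s - 1)) := by
        rw [show (4 : ℕ) = 2 ^ 2 by norm_num, ← pow_mul, ← pow_mul]
        congr 1
        ring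
    _ ≤ 5 ^ (N * (s - 1)) := Nat.pow_le_pow_left (by norm_num) _
    _ ≤ 5 ^ (n - 2) := Nat.pow_le_pow_right (by norm_num) (by omega)
    _ ≤ 2 * 5 ^ (n - 2) := by omega

theorem two_dvd_sq (s : ℕ) (hs : 1 ≤ s) : 2 ∣ s * (s ^ 2 - 1) := by
  obtain ⟨t, rfl⟩ : ∃ t, s = t + 1 := ⟨s - 1, by omega⟩
  have h : (t + 1) ^ 2 - 1 = t * (t + 2) := by
    rw [show (t + 1) ^ 2 = t * (t + 2) + 1 by ring, Nat.add_sub_cancel]
  rw [h]
  have h1 : t % 2 = 0 ∨ t % 2 = 1 := by omega
  apply Nat.dvd_of_mod_eq_zero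
  rcases h1 with h1 | h1 <;> simp [Nat.mul_mod, Nat.add_mod, h1]

theorem three_dvd_sq (s : ℕ) (hs : 1 ≤ s) : 3 ∣ s * (s ^ 2 - 1) := by
  obtain ⟨t, rfl⟩ : ∃ t, s = t + 1 := ⟨s - 1, by omega⟩
  have h : (t + 1) ^ 2 - 1 = t * (t + 2) := by
    rw [show (t + 1) ^ 2 = t * (t + 2) + 1 by ring, Nat.add_sub_cancel]
  rw [h]
  have h1 : t % 3 = 0 ∨ t % 3 = 1 ∨ t % 3 = 2 := by omega
  apply Nat.dvd_of_mod_eq_zero
  rcases h1 with h1 | h1 | h1 <;> simp [Nat.mul_mod, Nat.add_mod, h1]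

theorem sub_one_le (s k : ℕ) : s ^ k - 1 ≤ s ^ k := Nat.sub_le _ _

/-- a field has an element other than `0` and `1` if it has at least `3` elements -/
theorem exists_ne_ne {K : Type*} [Field K] [Fintype K] (h3 : 3 ≤ Fintype.card K) : ∃ a : K, a ≠ 0 ∧ a ≠ 1 := by
  classical
  by_contra hcon
  push Not at hcon
  have h1 : (Finset.univ : Finset K) ⊆ {0, 1} := by
    intro x _
    simp only [Finset.mem_insert, Finset.mem_singleton]
    by_cases hx : x = 0
    · exact Or.inl hx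
    · exact Or.inr (hcon x hx)
  have h2 := Finset.card_le_card h1
  have h3 : ({0, 1} : Finset K).card ≤ 2 := Finset.card_le_two
  rw [Finset.card_univ] at h2
  omega

/-- `|K| = r ^ f`, `f < |K|` -/
theorem exists_f {K : Type*} [Field K] [Fintype K] (r : ℕ) [CharP K r] :
    r.Prime ∧ ∃ f, 1 ≤ f ∧ Fintype.card K = r ^ f ∧ f < Fintype.card K := by
  have hr : r.Prime := (CharP.char_is_prime_or_zero K r).resolve_right (CharP.char_ne_zero_of_finite K r)
  have : Fact r.Prime := ⟨hr⟩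
  obtain ⟨⟨f, hf⟩, -, hcard⟩ := FiniteField.card K r
  have hcard : Fintype.card K = r ^ f := hcard
  exact ⟨hr, f, hf, hcard, by rw [hcard]; exact Nat.lt_pow_self hr.one_lt⟩

/-! ### `G₂(s)` -/

theorem card_mulAut_g2 {K : Type} [Field K] [Fintype K] (r : ℕ) [CharP K r] (h3 : 3 ≤ Fintype.card K) :
    Nat.card (MulAut ↥(Lie.chevG2.group K)) ≤ Fintype.card K ^ 16 := by
  obtain ⟨hr, f, hf, hcard, hlt⟩ := exists_f (K := K) r
  have hfact : Fact r.Prime := ⟨hr⟩
  obtain ⟨hs, hna⟩ := S1055.result (F := K) (exists_ne_ne h3)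
  have hT : Nat.card ↥(Lie.chevG2.group K) = _ := S1059.result rfl
  have hout : Nat.card (Out ↥(Lie.chevG2.group K)) ≤ 2 * Fintype.card K := by
    rw [S2121.result r f hcard (by rw [← hcard]; omega)]
    split_ifs <;> omega
  rw [H762.FineTools.card_aut hna]
  set q := Fintype.card K with hq
  have h1 : Nat.card ↥(Lie.chevG2.group K) ≤ q ^ 14 := by
    rw [hT]
    calc q ^ 6 * (q ^ 2 - 1) * (q ^ 6 - 1) ≤ q ^ 6 * q ^ 2 * q ^ 6 :=
          Nat.mul_le_mul (Nat.mul_le_mul_left _ (Nat.sub_le _ _)) (Nat.sub_le _ _)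
      _ = q ^ 14 := by ring
  calc _ ≤ q ^ 14 * (2 * q) := Nat.mul_le_mul h1 hout
    _ ≤ q ^ 14 * (q * q) := Nat.mul_le_mul_left _ (Nat.mul_le_mul_right _ (by omega))
    _ = q ^ 16 := by ring

theorem dead_g2 {K : Type} [Field K] [Fintype K] (r : ℕ) [CharP K r] (h3 : 3 ≤ Fintype.card K) {n : ℕ} (hn : 13 ≤ n)
    (key : ∀ {d : ℕ}, LS.{0, u, u} r d ↥(Lie.chevG2.group K) → d ≤ n) : Dead n ↥(Lie.chevG2.group K) := by
  obtain ⟨hs, hna⟩ := S1055.result (F := K) (exists_ne_ne h3)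
  have hT : Nat.card ↥(Lie.chevG2.group K) = _ := S1059.result rfl
  by_cases h7 : 7 ≤ Fintype.card K
  · have hd := key (G2.ls K (by rw [Nat.card_eq_fintype_card]; omega) (by rw [Nat.card_eq_fintype_card]; omega))
    rw [Nat.card_eq_fintype_card] at hd
    have hA := card_mulAut_g2 (K := K) r h3
    set s := Fintype.card K with hsdef
    have hT2 : 2 ∣ Nat.card ↥(Lie.chevG2.group K) := by
      rw [hT]
      refine Dvd.dvd.mul_right ((two_dvd_sq s (by omega)).trans ?_) _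
      exact Nat.mul_dvd_mul_right (dvd_pow_self s (by norm_num)) _
    have hT3 : 3 ∣ Nat.card ↥(Lie.chevG2.group K) := by
      rw [hT]
      refine Dvd.dvd.mul_right ((three_dvd_sq s (by omega)).trans ?_) _
      exact Nat.mul_dvd_mul_right (dvd_pow_self s (by norm_num)) _
    by_cases h17 : 17 ≤ s
    · refine big_five (s := s) (N := 16) (d := (s - 1) * s) (by omega) hd ?_ hT2 hT3 hA
      have h1 : (s - 1) * 17 ≤ (s - 1) * s := Nat.mul_le_mul_left _ h17
      omega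
    · refine dead_of_pow (b := 5) (by omega) (fun q hq hc => five_le hT2 hT3 hq hc) ?_
      refine (Nat.pow_le_pow_left hA 2).trans ?_
      refine le_trans ?_ (Nat.mul_le_mul_left 2 (Nat.pow_le_pow_right (by norm_num)
        (show (s - 1) * s - 2 ≤ n - 2 by omega)))
      clear_value s
      clear hd hT hT2 hT3 hA key
      interval_cases s <;> norm_num
  · have h' : Fintype.card K = 3 ∨ Fintype.card K = 4 ∨ Fintype.card K = 5 ∨ Fintype.card K = 6 := by omega
    obtain ⟨hr, f, hf, hcard, hlt⟩ := exists_f (K := K) r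
    have hfact : Fact r.Prime := ⟨hr⟩
    rcases h' with h | h | h | h
    · have hr3 : r = 3 := by
        have h1 : r ∣ 3 := by rw [← h, hcard]; exact dvd_pow_self r (by omega)
        exact (Nat.prime_dvd_prime_iff_eq hr Nat.prime_three).1 h1
      subst hr3
      have h14 := key (Cfsg.Agent.H95.LSx.G23.ls h)
      rw [h] at hT
      have hA : Nat.card (MulAut ↥(Lie.chevG2.group K)) = 8491392 := by
        rw [H762.FineTools.card_aut hna, hT, S2121.result (F := K) 3 1 (by rw [h]; norm_num) (by norm_num)]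
        norm_num
      exact sieve_dead (o := 4245696) (A := 8491392) (n₀ := 14) 5 40 40 (by rw [hT]; norm_num) hA (by norm_num)
        (by norm_num) (by norm_num) (by decide) (by decide) h14
    · have hr2 : r = 2 := by
        have h1 : r ∣ 2 ^ 2 := by rw [show 2 ^ 2 = 4 by norm_num, ← h, hcard]; exact dvd_pow_self r (by omega)
        exact (Nat.prime_dvd_prime_iff_eq hr Nat.prime_two).1 (hr.dvd_of_dvd_pow h1)
      subst hr2
      rw [h] at hT
      have hA : Nat.card (MulAut ↥(Lie.chevG2.group K)) = 503193600 := by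
        rw [H762.FineTools.card_aut hna, hT, S2121.result (F := K) 2 2 (by rw [h]; norm_num) (by norm_num)]
        norm_num
      exact sieve_dead (o := 251596800) (A := 503193600) (n₀ := 13) 11 60 40 (by rw [hT]; norm_num) hA (by norm_num)
        (by norm_num) (by norm_num) (by decide) (by decide) hn
    · have hr5 : r = 5 := by
        have h1 : r ∣ 5 := by rw [← h, hcard]; exact dvd_pow_self r (by omega)
        exact (Nat.prime_dvd_prime_iff_eq hr Nat.prime_five).1 h1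
      subst hr5
      have h20 := key (G2.ls K (by rw [Nat.card_eq_fintype_card, h]; norm_num)
        (by rw [Nat.card_eq_fintype_card, h]; norm_num))
      rw [Nat.card_eq_fintype_card, h] at h20
      rw [h] at hT
      have hA : Nat.card (MulAut ↥(Lie.chevG2.group K)) = 5859000000 := by
        rw [H762.FineTools.card_aut hna, hT, S2121.result (F := K) 5 1 (by rw [h]; norm_num) (by norm_num)]
        norm_num
      exact sieve_dead (o := 5859000000) (A := 5859000000) (n₀ := 20) 11 60 40 (by rw [hT]; norm_num) hA (by norm_num)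
        (by norm_num) (by norm_num) (by decide) (by decide) h20
    · exfalso
      rw [h] at hcard
      have h2 : 2 ∣ r ^ f := by rw [← hcard]; norm_num
      have h3' : 3 ∣ r ^ f := by rw [← hcard]; norm_num
      have e2 := (Nat.prime_dvd_prime_iff_eq Nat.prime_two hr).1 (Nat.prime_two.dvd_of_dvd_pow h2)
      have e3 := (Nat.prime_dvd_prime_iff_eq Nat.prime_three hr).1 (Nat.prime_three.dvd_of_dvd_pow h3')
      omega

/-! ### `F₄(s)` -/

theorem dead_f4 {K : Type} [Field K] [Fintype K] (r : ℕ) [CharP K r] {n : ℕ}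
    (key : ∀ {d : ℕ}, LS.{0, u, u} r d ↥(Lie.chevF4.group K) → d ≤ n) : Dead n ↥(Lie.chevF4.group K) := by
  obtain ⟨hs, hna⟩ := S1054.result (F := K) Lie.chevF4 (by simp)
  obtain ⟨hr, f, hf, hcard, hlt⟩ := exists_f (K := K) r
  have hfact : Fact r.Prime := ⟨hr⟩
  have hT : Nat.card ↥(Lie.chevF4.group K) = _ := S1062.result rfl
  have hO := S2122.result (F := K) r f hcard
  have hq2 : 2 ≤ Fintype.card K := Fintype.one_lt_card
  by_cases h2 : Fintype.card K = 2
  · have hr2 : r = 2 := by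
      have h1 : r ∣ 2 := by rw [← h2, hcard]; exact dvd_pow_self r (by omega)
      exact (Nat.prime_dvd_prime_iff_eq hr Nat.prime_two).1 h1
    subst hr2
    have hf1 : f = 1 := by omega
    subst hf1
    have h16 := key (Cfsg.Agent.H95.LSx.ls_f4_two h2)
    rw [h2] at hT
    have hA : Nat.card (MulAut ↥(Lie.chevF4.group K)) = 6622253206732800 := by
      rw [H762.FineTools.card_aut hna, hT, hO]
      norm_num
    exact sieve_dead (o := 3311126603366400) (A := 6622253206732800) (n₀ := 16) 11 300 60 (by rw [hT]; norm_num) hA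
      (by norm_num) (by norm_num) (by norm_num) (by decide) (by decide +kernel) h16
  · have hd : (Fintype.card K - 1) * Fintype.card K ^ 4 ≤ n := by
      by_cases h0 : (2 : K) = 0
      · have := key (F4even.ls_even K h0 (by rw [Nat.card_eq_fintype_card]; omega))
        rwa [Nat.card_eq_fintype_card] at this
      · have := key (F4odd.ls_odd K h0)
        rwa [Nat.card_eq_fintype_card] at this
    set s := Fintype.card K with hsdef
    have hT2 : 2 ∣ Nat.card ↥(Lie.chevF4.group K) := by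
      rw [hT]
      refine Dvd.dvd.mul_right (Dvd.dvd.mul_right (Dvd.dvd.mul_right ((two_dvd_sq s (by omega)).trans ?_) _) _) _
      exact Nat.mul_dvd_mul_right (dvd_pow_self s (by norm_num)) _
    have hT3 : 3 ∣ Nat.card ↥(Lie.chevF4.group K) := by
      rw [hT]
      refine Dvd.dvd.mul_right (Dvd.dvd.mul_right (Dvd.dvd.mul_right ((three_dvd_sq s (by omega)).trans ?_) _) _) _
      exact Nat.mul_dvd_mul_right (dvd_pow_self s (by norm_num)) _
    have hout : Nat.card (Out ↥(Lie.chevF4.group K)) ≤ s * s := by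
      rw [hO]
      exact Nat.mul_le_mul ((Nat.gcd_le_left _ (by norm_num)).trans hq2) hlt.le
    have h1 : Nat.card ↥(Lie.chevF4.group K) ≤ s ^ 52 := by
      rw [hT]
      calc s ^ 24 * (s ^ 2 - 1) * (s ^ 6 - 1) * (s ^ 8 - 1) * (s ^ 12 - 1)
          ≤ s ^ 24 * s ^ 2 * s ^ 6 * s ^ 8 * s ^ 12 := by gcongr <;> exact Nat.sub_le _ _
        _ = s ^ 52 := by ring
    refine big_five (s := s) (N := 54) (d := (s - 1) * s ^ 4) hq2 hd ?_ hT2 hT3 ?_
    · have h3 : 3 ≤ s := by omega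
      have h4 : 3 ^ 4 ≤ s ^ 4 := Nat.pow_le_pow_left h3 4
      have h5 : (s - 1) * 81 ≤ (s - 1) * s ^ 4 := Nat.mul_le_mul_left _ (by simpa using h4)
      omega
    · rw [H762.FineTools.card_aut hna]
      calc _ ≤ s ^ 52 * (s * s) := Nat.mul_le_mul h1 hout
        _ = s ^ 54 := by ring

/-! ### `E₆(s)`, `E₇(s)`, `E₈(s)` -/

theorem dead_e6 {K : Type} [Field K] [Fintype K] (r : ℕ) [CharP K r] {n : ℕ}
    (key : ∀ {d : ℕ}, LS.{0, u, u} r d ↥(Lie.chevE6.group K) → d ≤ n) : Dead n ↥(Lie.chevE6.group K) := by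
  obtain ⟨hs, hna⟩ := S1054.result (F := K) Lie.chevE6 (by simp)
  obtain ⟨hr, f, hf, hcard, hlt⟩ := exists_f (K := K) r
  have hfact : Fact r.Prime := ⟨hr⟩
  have hT : Nat.gcd 3 (Fintype.card K - 1) * Nat.card ↥(Lie.chevE6.group K) = _ := S1063.result rfl
  have hO := S2123.result (F := K) r f hcard
  have hq2 : 2 ≤ Fintype.card K := Fintype.one_lt_card
  have hd := key (E6.ls K)
  rw [Nat.card_eq_fintype_card] at hd
  set s := Fintype.card K with hsdef
  have h1 : Nat.card ↥(Lie.chevE6.group K) ≤ s ^ 78 := by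
    have h0 : 1 ≤ Nat.gcd 3 (s - 1) := Nat.gcd_pos_of_pos_left _ (by norm_num)
    calc Nat.card ↥(Lie.chevE6.group K) ≤ Nat.gcd 3 (s - 1) * Nat.card ↥(Lie.chevE6.group K) :=
          Nat.le_mul_of_pos_left _ h0
      _ = _ := hT
      _ ≤ s ^ 36 * s ^ 2 * s ^ 5 * s ^ 6 * s ^ 8 * s ^ 9 * s ^ 12 := by gcongr <;> exact Nat.sub_le _ _
      _ = s ^ 78 := by ring
  have hout : Nat.card (Out ↥(Lie.chevE6.group K)) ≤ s ^ 4 := by
    rw [hO]
    have h3 : Nat.gcd 3 (r ^ f - 1) ≤ 3 := Nat.gcd_le_left _ (by norm_num)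
    have h8 : 2 ^ 3 ≤ s ^ 3 := Nat.pow_le_pow_left hq2 3
    calc 2 * Nat.gcd 3 (r ^ f - 1) * f ≤ 2 * 3 * s := Nat.mul_le_mul (Nat.mul_le_mul_left _ h3) hlt.le
      _ ≤ s ^ 3 * s := Nat.mul_le_mul_right _ (by omega)
      _ = s ^ 4 := by ring
  refine big_two (s := s) (N := 82) (d := (s - 1) * s ^ 10) hq2 hd ?_ ?_ ?_
  · have h4 : 2 ^ 10 ≤ s ^ 10 := Nat.pow_le_pow_left hq2 10
    have h5 : (s - 1) * 1024 ≤ (s - 1) * s ^ 10 := Nat.mul_le_mul_left _ (by simpa using h4)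
    omega
  · have h4 : 2 ^ 10 ≤ s ^ 10 := Nat.pow_le_pow_left hq2 10
    have h5 : (s - 1) * 1024 ≤ (s - 1) * s ^ 10 := Nat.mul_le_mul_left _ (by simpa using h4)
    omega
  · rw [H762.FineTools.card_aut hna]
    calc _ ≤ s ^ 78 * s ^ 4 := Nat.mul_le_mul h1 hout
      _ = s ^ 82 := by ring

theorem dead_e7 {K : Type} [Field K] [Fintype K] (r : ℕ) [CharP K r] {n : ℕ}
    (key : ∀ {d : ℕ}, LS.{0, u, u} r d ↥(Lie.chevE7.group K) → d ≤ n) : Dead n ↥(Lie.chevE7.group K) := by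
  obtain ⟨hs, hna⟩ := S1054.result (F := K) Lie.chevE7 (by simp)
  obtain ⟨hr, f, hf, hcard, hlt⟩ := exists_f (K := K) r
  have hfact : Fact r.Prime := ⟨hr⟩
  have hT : Nat.gcd 2 (Fintype.card K - 1) * Nat.card ↥(Lie.chevE7.group K) = _ := S1064.result rfl
  have hO := S2124.result (F := K) r f hcard
  have hq2 : 2 ≤ Fintype.card K := Fintype.one_lt_card
  have hd := key (E7.ls K)
  rw [Nat.card_eq_fintype_card] at hd
  set s := Fintype.card K with hsdef
  have h1 : Nat.card ↥(Lie.chevE7.group K) ≤ s ^ 133 := by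
    have h0 : 1 ≤ Nat.gcd 2 (s - 1) := Nat.gcd_pos_of_pos_left _ (by norm_num)
    calc Nat.card ↥(Lie.chevE7.group K) ≤ Nat.gcd 2 (s - 1) * Nat.card ↥(Lie.chevE7.group K) :=
          Nat.le_mul_of_pos_left _ h0
      _ = _ := hT
      _ ≤ s ^ 63 * s ^ 2 * s ^ 6 * s ^ 8 * s ^ 10 * s ^ 12 * s ^ 14 * s ^ 18 := by
          gcongr <;> exact Nat.sub_le _ _
      _ = s ^ 133 := by ring
  have hout : Nat.card (Out ↥(Lie.chevE7.group K)) ≤ s ^ 2 := by
    rw [hO]
    have h3 : Nat.gcd 2 (r ^ f - 1) ≤ 2 := Nat.gcd_le_left _ (by norm_num)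
    calc Nat.gcd 2 (r ^ f - 1) * f ≤ 2 * s := Nat.mul_le_mul h3 hlt.le
      _ ≤ s * s := Nat.mul_le_mul_right _ hq2
      _ = s ^ 2 := by ring
  have h4 : 2 ^ 16 ≤ s ^ 16 := Nat.pow_le_pow_left hq2 16
  have h5 : (s - 1) * 65536 ≤ (s - 1) * s ^ 16 := Nat.mul_le_mul_left _ (by simpa using h4)
  refine big_two (s := s) (N := 135) (d := (s - 1) * s ^ 16) hq2 hd (by omega) (by omega) ?_
  rw [H762.FineTools.card_aut hna]
  calc _ ≤ s ^ 133 * s ^ 2 := Nat.mul_le_mul h1 hout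
    _ = s ^ 135 := by ring

theorem dead_e8 {K : Type} [Field K] [Fintype K] (r : ℕ) [CharP K r] {n : ℕ}
    (key : ∀ {d : ℕ}, LS.{0, u, u} r d ↥(Lie.chevE8.group K) → d ≤ n) : Dead n ↥(Lie.chevE8.group K) := by
  obtain ⟨hs, hna⟩ := S1054.result (F := K) Lie.chevE8 (by simp)
  obtain ⟨hr, f, hf, hcard, hlt⟩ := exists_f (K := K) r
  have hfact : Fact r.Prime := ⟨hr⟩
  have hT : Nat.card ↥(Lie.chevE8.group K) = _ := S1065.result rfl
  have hO := S2125.result (F := K) r f hcard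
  have hq2 : 2 ≤ Fintype.card K := Fintype.one_lt_card
  have hd := key (E8.ls K)
  rw [Nat.card_eq_fintype_card] at hd
  set s := Fintype.card K with hsdef
  have h1 : Nat.card ↥(Lie.chevE8.group K) ≤ s ^ 248 := by
    rw [hT]
    calc _ ≤ s ^ 120 * s ^ 2 * s ^ 8 * s ^ 12 * s ^ 14 * s ^ 18 * s ^ 20 * s ^ 24 * s ^ 30 := by
          gcongr <;> exact Nat.sub_le _ _
      _ = s ^ 248 := by ring
  have h4 : 2 ^ 28 ≤ s ^ 28 := Nat.pow_le_pow_left hq2 28
  have h5 : (s - 1) * 268435456 ≤ (s - 1) * s ^ 28 := Nat.mul_le_mul_left _ (by simpa using h4)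
  refine big_two (s := s) (N := 249) (d := (s - 1) * s ^ 28) hq2 hd (by omega) (by omega) ?_
  rw [H762.FineTools.card_aut hna, hO]
  calc _ ≤ s ^ 248 * s := Nat.mul_le_mul h1 hlt.le
    _ = s ^ 249 := by ring

open Cfsg.Agent.H915.LD in
/-- **S3540, B7.** -/
theorem dead_chev {F : Type u} [Field F] [Finite F] {n p : ℕ} [Fact p.Prime] [CharP F p]
    {P : Subgroup (Matrix.GeneralLinearGroup (Fin n) F)} (hC : H915.LD.Core P) (hn : 13 ≤ n)
    (hp : ¬ p ∣ Nat.card (Soc P)) (r : ℕ) (hT : Cfsg.IsExceptionalChevChar r (Soc P)) : Dead n (Soc P) := by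
  obtain ⟨K, _, _, _, h⟩ := hT
  obtain ⟨hr, f, hf, hcard, hlt⟩ := exists_f (K := K) r
  have hpp : p.Prime := Fact.out
  have hq2 : 2 ≤ Fintype.card K := Fintype.one_lt_card
  have hrK : r ∣ Fintype.card K := by rw [hcard]; exact dvd_pow_self r (by omega)
  have hsimp : IsSimpleGroup (Soc P) := hC.simple
  have hF : ∀ {T' : Type} [Group T'], (Soc P ≃* T') → r ∣ Nat.card T' → (r : F) ≠ 0 := by
    intro T' _ e' hdvd h0
    rw [CharP.cast_eq_zero_iff F p] at h0
    apply hp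
    rw [Nat.card_congr e'.toEquiv, (Nat.prime_dvd_prime_iff_eq hpp hr).1 h0]
    exact hdvd
  have key : ∀ {T' : Type} [Group T'], (Soc P ≃* T') → r ∣ Nat.card T' → ∀ {d : ℕ}, LS.{0, u, u} r d T' →
      d ≤ n := by
    intro T' _ e' hdvd d hls
    exact H912.Bd.le_of_ls (LS.congr e'.symm hls) (hF e' hdvd) P hC.perfect (MulEquiv.refl _)
  rcases h with ⟨h3, ⟨e'⟩⟩ | ⟨⟨e'⟩⟩ | ⟨⟨e'⟩⟩ | ⟨⟨e'⟩⟩ | ⟨⟨e'⟩⟩
  · refine (dead_g2 r h3 hn (key e' ?_)).congr e'.symm
    rw [S1059.result rfl]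
    exact Dvd.dvd.mul_right (Dvd.dvd.mul_right (dvd_pow hrK (by norm_num)) _) _
  · refine (dead_f4 r (key e' ?_)).congr e'.symm
    rw [S1062.result rfl]
    exact (((dvd_pow hrK (by norm_num : 24 ≠ 0)).mul_right _).mul_right _).mul_right _ |>.mul_right _
  · refine (dead_e6 r (key e' ?_)).congr e'.symm
    have h1 : r ∣ Nat.gcd 3 (Fintype.card K - 1) * Nat.card ↥(Lie.chevE6.group K) := by
      rw [S1063.result rfl]
      exact (((((dvd_pow hrK (by norm_num : 36 ≠ 0)).mul_right _).mul_right _).mul_right _).mul_right _).mul_right _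
        |>.mul_right _
    refine (hr.dvd_mul.1 h1).resolve_left ?_
    intro h2
    have h3 := h2.trans (Nat.gcd_dvd_right _ _)
    have h4 := (Nat.dvd_sub_iff_right (by omega) hrK).1 h3
    exact hr.one_lt.ne' (Nat.dvd_one.1 h4)
  · refine (dead_e7 r (key e' ?_)).congr e'.symm
    have h1 : r ∣ Nat.gcd 2 (Fintype.card K - 1) * Nat.card ↥(Lie.chevE7.group K) := by
      rw [S1064.result rfl]
      exact ((((((dvd_pow hrK (by norm_num : 63 ≠ 0)).mul_right _).mul_right _).mul_right _).mul_right _).mul_right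
        _).mul_right _ |>.mul_right _
    refine (hr.dvd_mul.1 h1).resolve_left ?_
    intro h2
    have h3 := h2.trans (Nat.gcd_dvd_right _ _)
    have h4 := (Nat.dvd_sub_iff_right (by omega) hrK).1 h3
    exact hr.one_lt.ne' (Nat.dvd_one.1 h4)
  · refine (dead_e8 r (key e' ?_)).congr e'.symm
    rw [S1065.result rfl]
    exact (((((((dvd_pow hrK (by norm_num : 120 ≠ 0)).mul_right _).mul_right _).mul_right _).mul_right _).mul_right
      _).mul_right _).mul_right _ |>.mul_right _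

end Cfsg.Agent.H744.HT
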