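import Cfsg.Agent.H744.HT.Chev
import Cfsg.Agent.H337.HT.NumP
import Cfsg.Agent.H337.HT.TabP

/-!
helper744 (task 6021, S3512 PB7): exceptional Chevalley groups, cross characteristic `p ∣ |T|`, degree at least 13:
`deadP_chev`.
-/

set_option autoImplicit false

namespace Cfsg.Agent.H744.HT.ChevP

open Cfsg Cfsg.Agent.H203.LS Cfsg.Agent.H337.HT Cfsg.Agent.H744.HT

universe u v w

/-- size -/
theorem big {T : Type v} [Group T] [Finite T] {p s N d n : ℕ} (hp : p.Prime) (hs : 2 ≤ s) (hd : d ≤ n)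
    (h : 2 * N * (s - 1) + 3 ≤ d) (hA : Nat.card (MulAut T) ≤ s ^ N) : DeadP p n T := by
  refine deadP_of_pow (b := 2) hp (by omega) hp.two_le hA Nat.card_pos ?_
  calc 2 * (s ^ N) ^ 2 = 2 * s ^ (2 * N) := by rw [← pow_mul, mul_comm N 2]
    _ ≤ 2 * (2 ^ (s - 1)) ^ (2 * N) := Nat.mul_le_mul_left _ (Nat.pow_le_pow_left (le_two_pow (by omega)) _)
    _ = 2 ^ (2 * N * (s - 1) + 1) := by rw [← pow_mul, mul_comm (s - 1), pow_succ, mul_comm]
    _ ≤ 2 ^ (n - 2) := Nat.pow_le_pow_right (by norm_num) (by omega)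

/-- `r` is determined by a prime divisor of `|K|` -/
theorem eq_of_card {r f s t : ℕ} (hr : r.Prime) (hcard : s = r ^ f) (ht : t.Prime) (h : t ∣ s) : t = r :=
  (Nat.prime_dvd_prime_iff_eq ht hr).1 (ht.dvd_of_dvd_pow (by rw [← hcard]; exact h))

/-! ### `G₂(s)` -/

theorem out_g2 {K : Type} [Field K] [Fintype K] (r f : ℕ) [Fact r.Prime] [CharP K r] (h3 : 3 ≤ Fintype.card K)
    (hcard : Fintype.card K = r ^ f) : Nat.card (Out ↥(Lie.chevG2.group K)) ≤ 2 * f := by
  rw [S2121.result r f hcard (by rw [← hcard]; omega)]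
  split_ifs <;> omega

theorem deadP_g2 {K : Type} [Field K] [Fintype K] (r : ℕ) [CharP K r] (h3 : 3 ≤ Fintype.card K) {p n : ℕ}
    (hp : p.Prime) (hpr : p ≠ r) (hpd : p ∣ Nat.card ↥(Lie.chevG2.group K)) (hn : 13 ≤ n)
    (key : ∀ {d : ℕ}, LS.{0, u, u} r d ↥(Lie.chevG2.group K) → d ≤ n) : DeadP p n ↥(Lie.chevG2.group K) := by
  obtain ⟨hs, hna⟩ := S1055.result (F := K) (exists_ne_ne h3)
  have hT : Nat.card ↥(Lie.chevG2.group K) = _ := S1059.result rfl
  obtain ⟨hr, f, hf, hcard, hlt⟩ := exists_f (K := K) r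
  have hfact : Fact r.Prime := ⟨hr⟩
  have hO := S2121.result (F := K) r f hcard (by rw [← hcard]; omega)
  have hpf : ∀ {t : ℕ}, t.Prime → t ∣ Fintype.card K → t = r := fun ht h => eq_of_card hr hcard ht h
  by_cases h5 : 5 ≤ Fintype.card K
  · have hd := key (G2.ls K (by rw [Nat.card_eq_fintype_card]; omega) (by rw [Nat.card_eq_fintype_card]; omega))
    rw [Nat.card_eq_fintype_card] at hd
    by_cases h12 : 12 ≤ Fintype.card K
    · have hA := card_mulAut_g2 (K := K) r h3
      set s := Fintype.card K with hsdef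
      by_cases h33 : 33 ≤ s
      · refine big (s := s) (N := 16) (d := (s - 1) * s) hp (by omega) hd ?_ hA
        have h1 : (s - 1) * 33 ≤ (s - 1) * s := Nat.mul_le_mul_left _ h33
        omega
      · by_cases h17 : 17 ≤ s
        · refine deadP_of_pow (b := 2) hp (by omega) hp.two_le (hA.trans (Nat.pow_le_pow_left (show s ≤ 2 ^ 5 by omega) 16))
            Nat.card_pos ?_
          have h1 : 16 * 17 ≤ (s - 1) * s := Nat.mul_le_mul (by omega) h17
          refine le_trans ?_ (Nat.pow_le_pow_right (by norm_num) (show 200 ≤ n - 2 by omega))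
          norm_num
        · refine deadP_of_pow (b := 2) hp (by omega) hp.two_le hA Nat.card_pos ?_
          refine le_trans ?_ (Nat.pow_le_pow_right (by norm_num) (show (s - 1) * s - 2 ≤ n - 2 by omega))
          clear_value s
          clear hd hT hA key hO hpf hpd
          interval_cases s <;> norm_num
    · have h' : Fintype.card K = 5 ∨ Fintype.card K = 6 ∨ Fintype.card K = 7 ∨ Fintype.card K = 8 ∨
          Fintype.card K = 9 ∨ Fintype.card K = 10 ∨ Fintype.card K = 11 := by omega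
      rcases h' with h | h | h | h | h | h | h
      · have hr5 : 5 = r := hpf (by norm_num) (by rw [h])
        subst hr5
        have hf1 : f = 1 := Nat.pow_right_injective (le_refl 5 |>.trans' (by norm_num)) (by
          change 5 ^ f = 5 ^ 1
          rw [← hcard, h, pow_one])
        subst hf1
        rw [h] at hT hd
        have hA : Nat.card (MulAut ↥(Lie.chevG2.group K)) = 5859000000 := by
          rw [H762.FineTools.card_aut hna, hT, hO]
          norm_num
        exact deadP_sieve 5 [2, 3, 7, 31] (o := 5859000000) (A := 5859000000) (n₀ := 20) (by rw [hT]; norm_num)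
          (by rw [hA]) (by norm_num) TabP.g2_5 hp hpd hpr hd
      · exfalso
        have h2 := hpf (t := 2) (by norm_num) (by rw [h]; norm_num)
        have h3 := hpf (t := 3) (by norm_num) (by rw [h]; norm_num)
        omega
      · have hr7 : 7 = r := hpf (by norm_num) (by rw [h])
        subst hr7
        have hf1 : f = 1 := Nat.pow_right_injective (show 2 ≤ 7 by norm_num) (by
          change 7 ^ f = 7 ^ 1
          rw [← hcard, h, pow_one])
        subst hf1
        rw [h] at hT hd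
        have hA : Nat.card (MulAut ↥(Lie.chevG2.group K)) = 664376138496 := by
          rw [H762.FineTools.card_aut hna, hT, hO]
          norm_num
        exact deadP_sieve 7 [2, 3, 19, 43] (o := 664376138496) (A := 664376138496) (n₀ := 42) (by rw [hT]; norm_num)
          (by rw [hA]) (by norm_num) TabP.g2_7 hp hpd hpr hd
      · have hr2 : 2 = r := hpf (by norm_num) (by rw [h]; norm_num)
        subst hr2
        have hf3 : f = 3 := Nat.pow_right_injective (le_refl 2) (by
          change 2 ^ f = 2 ^ 3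
          rw [← hcard, h])
        subst hf3
        rw [h] at hT hd
        have hA : Nat.card (MulAut ↥(Lie.chevG2.group K)) = 12987931557888 := by
          rw [H762.FineTools.card_aut hna, hT, hO]
          norm_num
        exact deadP_sieve 2 [3, 7, 19, 73] (o := 4329310519296) (A := 12987931557888) (n₀ := 56) (by rw [hT]; norm_num)
          (by rw [hA]) (by norm_num) TabP.g2_8 hp hpd hpr hd
      · have hr3 : 3 = r := hpf (by norm_num) (by rw [h]; norm_num)
        subst hr3
        have hf2 : f = 2 := Nat.pow_right_injective (show 2 ≤ 3 by norm_num) (by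
          change 3 ^ f = 3 ^ 2
          rw [← hcard, h])
        subst hf2
        rw [h] at hT hd
        have hA : Nat.card (MulAut ↥(Lie.chevG2.group K)) = 90377281612800 := by
          rw [H762.FineTools.card_aut hna, hT, hO]
          norm_num
        exact deadP_sieve 3 [2, 5, 7, 13, 73] (o := 22594320403200) (A := 90377281612800) (n₀ := 72)
          (by rw [hT]; norm_num) (by rw [hA]) (by norm_num) TabP.g2_9 hp hpd hpr hd
      · exfalso
        have h2 := hpf (t := 2) (by norm_num) (by rw [h]; norm_num)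
        have h3 := hpf (t := 5) (by norm_num) (by rw [h]; norm_num)
        omega
      · have hr11 : 11 = r := hpf (by norm_num) (by rw [h])
        subst hr11
        have hf1 : f = 1 := Nat.pow_right_injective (show 2 ≤ 11 by norm_num) (by
          change 11 ^ f = 11 ^ 1
          rw [← hcard, h, pow_one])
        subst hf1
        rw [h] at hT hd
        have hA : Nat.card (MulAut ↥(Lie.chevG2.group K)) ≤ 11 ^ 14 := by
          rw [H762.FineTools.card_aut hna, hT, hO]
          norm_num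
        refine deadP_of_pow (b := 2) hp (by omega) hp.two_le hA Nat.card_pos ?_
        refine le_trans ?_ (Nat.pow_le_pow_right (by norm_num) (show 108 ≤ n - 2 by omega))
        norm_num
  · have h' : Fintype.card K = 3 ∨ Fintype.card K = 4 := by omega
    rcases h' with h | h
    · have hr3 : 3 = r := hpf (by norm_num) (by rw [h])
      subst hr3
      have hf1 : f = 1 := Nat.pow_right_injective (show 2 ≤ 3 by norm_num) (by
        change 3 ^ f = 3 ^ 1
        rw [← hcard, h, pow_one])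
      subst hf1
      have h14 := key (Cfsg.Agent.H95.LSx.G23.ls h)
      rw [h] at hT
      have hA : Nat.card (MulAut ↥(Lie.chevG2.group K)) = 8491392 := by
        rw [H762.FineTools.card_aut hna, hT, hO]
        norm_num
      exact deadP_sieve 3 [2, 7, 13] (o := 4245696) (A := 8491392) (n₀ := 14) (by rw [hT]; norm_num)
        (by rw [hA]) (by norm_num) TabP.g2_3 hp hpd hpr h14
    · have hr2 : 2 = r := hpf (by norm_num) (by rw [h]; norm_num)
      subst hr2
      have hf2 : f = 2 := Nat.pow_right_injective (le_refl 2) (by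
        change 2 ^ f = 2 ^ 2
        rw [← hcard, h])
      subst hf2
      rw [h] at hT
      have hA : Nat.card (MulAut ↥(Lie.chevG2.group K)) = 503193600 := by
        rw [H762.FineTools.card_aut hna, hT, hO]
        norm_num
      exact deadP_sieve 2 [3, 5, 7, 13] (o := 251596800) (A := 503193600) (n₀ := 13) (by rw [hT]; norm_num)
        (by rw [hA]) (by norm_num) TabP.g2_4 hp hpd hpr hn

/-! ### `F₄(s)` -/

theorem deadP_f4 {K : Type} [Field K] [Fintype K] (r : ℕ) [CharP K r] {p n : ℕ}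
    (hp : p.Prime) (hpr : p ≠ r) (hpd : p ∣ Nat.card ↥(Lie.chevF4.group K))
    (key : ∀ {d : ℕ}, LS.{0, u, u} r d ↥(Lie.chevF4.group K) → d ≤ n) : DeadP p n ↥(Lie.chevF4.group K) := by
  obtain ⟨hs, hna⟩ := S1054.result (F := K) Lie.chevF4 (by simp)
  obtain ⟨hr, f, hf, hcard, hlt⟩ := exists_f (K := K) r
  have hfact : Fact r.Prime := ⟨hr⟩
  have hT : Nat.card ↥(Lie.chevF4.group K) = _ := S1062.result rfl
  have hO := S2122.result (F := K) r f hcard
  have hq2 : 2 ≤ Fintype.card K := Fintype.one_lt_card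
  have hpf : ∀ {t : ℕ}, t.Prime → t ∣ Fintype.card K → t = r := fun ht h => eq_of_card hr hcard ht h
  by_cases h2 : Fintype.card K = 2
  · have hr2 : 2 = r := hpf (by norm_num) (by rw [h2])
    subst hr2
    have hf1 : f = 1 := by omega
    subst hf1
    have h16 := key (Cfsg.Agent.H95.LSx.ls_f4_two h2)
    rw [h2] at hT
    have hA : Nat.card (MulAut ↥(Lie.chevF4.group K)) = 6622253206732800 := by
      rw [H762.FineTools.card_aut hna, hT, hO]
      norm_num
    exact deadP_sieve 2 [3, 5, 7, 13, 17] (o := 3311126603366400) (A := 6622253206732800) (n₀ := 16)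
      (by rw [hT]; norm_num) (by rw [hA]) (by norm_num) TabP.f4_2 hp hpd hpr h16
  · have hd : (Fintype.card K - 1) * Fintype.card K ^ 4 ≤ n := by
      by_cases h0 : (2 : K) = 0
      · have := key (F4even.ls_even K h0 (by rw [Nat.card_eq_fintype_card]; omega))
        rwa [Nat.card_eq_fintype_card] at this
      · have := key (F4odd.ls_odd K h0)
        rwa [Nat.card_eq_fintype_card] at this
    by_cases h3 : Fintype.card K = 3
    · have hr3 : 3 = r := hpf (by norm_num) (by rw [h3])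
      subst hr3
      have hf1 : f = 1 := Nat.pow_right_injective (show 2 ≤ 3 by norm_num) (by
        change 3 ^ f = 3 ^ 1
        rw [← hcard, h3, pow_one])
      subst hf1
      rw [h3] at hT hd
      have hA : Nat.card (MulAut ↥(Lie.chevF4.group K)) = 5734420792816671844761600 := by
        rw [H762.FineTools.card_aut hna, hT, hO]
        norm_num
      exact deadP_sieve 3 [2, 5, 7, 13, 41, 73] (o := 5734420792816671844761600) (A := 5734420792816671844761600)
        (n₀ := 162) (by rw [hT]; norm_num) (by rw [hA]) (by norm_num) TabP.f4_3 hp hpd hpr (by simpa using hd)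
    set s := Fintype.card K with hsdef
    have hout : Nat.card (Out ↥(Lie.chevF4.group K)) ≤ s * s := by
      rw [hO]
      exact Nat.mul_le_mul ((Nat.gcd_le_left _ (by norm_num)).trans hq2) hlt.le
    have h1 : Nat.card ↥(Lie.chevF4.group K) ≤ s ^ 52 := by
      rw [hT]
      calc s ^ 24 * (s ^ 2 - 1) * (s ^ 6 - 1) * (s ^ 8 - 1) * (s ^ 12 - 1)
          ≤ s ^ 24 * s ^ 2 * s ^ 6 * s ^ 8 * s ^ 12 := by gcongr <;> exact Nat.sub_le _ _
        _ = s ^ 52 := by ring
    refine big (s := s) (N := 54) (d := (s - 1) * s ^ 4) hp hq2 hd ?_ ?_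
    · have h3 : 4 ≤ s := by omega
      have h4 : 4 ^ 4 ≤ s ^ 4 := Nat.pow_le_pow_left h3 4
      have h5 : (s - 1) * 256 ≤ (s - 1) * s ^ 4 := Nat.mul_le_mul_left _ (by simpa using h4)
      omega
    · rw [H762.FineTools.card_aut hna]
      calc _ ≤ s ^ 52 * (s * s) := Nat.mul_le_mul h1 hout
        _ = s ^ 54 := by ring

/-! ### `E₆(s)`, `E₇(s)`, `E₈(s)` -/

theorem deadP_e6 {K : Type} [Field K] [Fintype K] (r : ℕ) [CharP K r] {p n : ℕ} (hp : p.Prime)
    (key : ∀ {d : ℕ}, LS.{0, u, u} r d ↥(Lie.chevE6.group K) → d ≤ n) : DeadP p n ↥(Lie.chevE6.group K) := by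
  obtain ⟨hs, hna⟩ := S1054.result (F := K) Lie.chevE6 (by simp)
  obtain ⟨hr, f, hf, hcard, hlt⟩ := exists_f (K := K) r
  have hfact : Fact r.Prime := ⟨hr⟩
  have hT : Nat.gcd 3 (Fintype.card K - 1) * Nat.card ↥(Lie.chevE6.group K) = _ := S1063.result rfl
  have hO := S2123.result (F := K) r f hcard
  have hq2 : 2 ≤ Fintype.card K := Fintype.one_lt_card
  have hd := key (E6.ls K)
  rw [Nat.card_eq_fintype_card] at hd
  set s := Fintype.card K with hsdef
  have h1 : Nat.card ↥(Lie.chevE6.group K) ≤ s ^ 78 := by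
    have h0 : 1 ≤ Nat.gcd 3 (s - 1) := Nat.gcd_pos_of_pos_left _ (by norm_num)
    calc Nat.card ↥(Lie.chevE6.group K) ≤ Nat.gcd 3 (s - 1) * Nat.card ↥(Lie.chevE6.group K) :=
          Nat.le_mul_of_pos_left _ h0
      _ = _ := hT
      _ ≤ s ^ 36 * s ^ 2 * s ^ 5 * s ^ 6 * s ^ 8 * s ^ 9 * s ^ 12 := by gcongr <;> exact Nat.sub_le _ _
      _ = s ^ 78 := by ring
  have hout : Nat.card (Out ↥(Lie.chevE6.group K)) ≤ s ^ 4 := by
    rw [hO]
    have h3 : Nat.gcd 3 (r ^ f - 1) ≤ 3 := Nat.gcd_le_left _ (by norm_num)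
    have h8 : 2 ^ 3 ≤ s ^ 3 := Nat.pow_le_pow_left hq2 3
    calc 2 * Nat.gcd 3 (r ^ f - 1) * f ≤ 2 * 3 * s := Nat.mul_le_mul (Nat.mul_le_mul_left _ h3) hlt.le
      _ ≤ s ^ 3 * s := Nat.mul_le_mul_right _ (by omega)
      _ = s ^ 4 := by ring
  refine big (s := s) (N := 82) (d := (s - 1) * s ^ 10) hp hq2 hd ?_ ?_
  · have h4 : 2 ^ 10 ≤ s ^ 10 := Nat.pow_le_pow_left hq2 10
    have h5 : (s - 1) * 1024 ≤ (s - 1) * s ^ 10 := Nat.mul_le_mul_left _ (by simpa using h4)
    omega
  · rw [H762.FineTools.card_aut hna]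
    calc _ ≤ s ^ 78 * s ^ 4 := Nat.mul_le_mul h1 hout
      _ = s ^ 82 := by ring

theorem deadP_e7 {K : Type} [Field K] [Fintype K] (r : ℕ) [CharP K r] {p n : ℕ} (hp : p.Prime)
    (key : ∀ {d : ℕ}, LS.{0, u, u} r d ↥(Lie.chevE7.group K) → d ≤ n) : DeadP p n ↥(Lie.chevE7.group K) := by
  obtain ⟨hs, hna⟩ := S1054.result (F := K) Lie.chevE7 (by simp)
  obtain ⟨hr, f, hf, hcard, hlt⟩ := exists_f (K := K) r
  have hfact : Fact r.Prime := ⟨hr⟩
  have hT : Nat.gcd 2 (Fintype.card K - 1) * Nat.card ↥(Lie.chevE7.group K) = _ := S1064.result rfl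
  have hO := S2124.result (F := K) r f hcard
  have hq2 : 2 ≤ Fintype.card K := Fintype.one_lt_card
  have hd := key (E7.ls K)
  rw [Nat.card_eq_fintype_card] at hd
  set s := Fintype.card K with hsdef
  have h1 : Nat.card ↥(Lie.chevE7.group K) ≤ s ^ 133 := by
    have h0 : 1 ≤ Nat.gcd 2 (s - 1) := Nat.gcd_pos_of_pos_left _ (by norm_num)
    calc Nat.card ↥(Lie.chevE7.group K) ≤ Nat.gcd 2 (s - 1) * Nat.card ↥(Lie.chevE7.group K) :=
          Nat.le_mul_of_pos_left _ h0
      _ = _ := hT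
      _ ≤ s ^ 63 * s ^ 2 * s ^ 6 * s ^ 8 * s ^ 10 * s ^ 12 * s ^ 14 * s ^ 18 := by
          gcongr <;> exact Nat.sub_le _ _
      _ = s ^ 133 := by ring
  have hout : Nat.card (Out ↥(Lie.chevE7.group K)) ≤ s ^ 2 := by
    rw [hO]
    have h3 : Nat.gcd 2 (r ^ f - 1) ≤ 2 := Nat.gcd_le_left _ (by norm_num)
    calc Nat.gcd 2 (r ^ f - 1) * f ≤ 2 * s := Nat.mul_le_mul h3 hlt.le
      _ ≤ s * s := Nat.mul_le_mul_right _ hq2
      _ = s ^ 2 := by ring
  have h4 : 2 ^ 16 ≤ s ^ 16 := Nat.pow_le_pow_left hq2 16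
  have h5 : (s - 1) * 65536 ≤ (s - 1) * s ^ 16 := Nat.mul_le_mul_left _ (by simpa using h4)
  refine big (s := s) (N := 135) (d := (s - 1) * s ^ 16) hp hq2 hd (by omega) ?_
  rw [H762.FineTools.card_aut hna]
  calc _ ≤ s ^ 133 * s ^ 2 := Nat.mul_le_mul h1 hout
    _ = s ^ 135 := by ring

theorem deadP_e8 {K : Type} [Field K] [Fintype K] (r : ℕ) [CharP K r] {p n : ℕ} (hp : p.Prime)
    (key : ∀ {d : ℕ}, LS.{0, u, u} r d ↥(Lie.chevE8.group K) → d ≤ n) : DeadP p n ↥(Lie.chevE8.group K) := by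
  obtain ⟨hs, hna⟩ := S1054.result (F := K) Lie.chevE8 (by simp)
  obtain ⟨hr, f, hf, hcard, hlt⟩ := exists_f (K := K) r
  have hfact : Fact r.Prime := ⟨hr⟩
  have hT : Nat.card ↥(Lie.chevE8.group K) = _ := S1065.result rfl
  have hO := S2125.result (F := K) r f hcard
  have hq2 : 2 ≤ Fintype.card K := Fintype.one_lt_card
  have hd := key (E8.ls K)
  rw [Nat.card_eq_fintype_card] at hd
  set s := Fintype.card K with hsdef
  have h1 : Nat.card ↥(Lie.chevE8.group K) ≤ s ^ 248 := by
    rw [hT]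
    calc _ ≤ s ^ 120 * s ^ 2 * s ^ 8 * s ^ 12 * s ^ 14 * s ^ 18 * s ^ 20 * s ^ 24 * s ^ 30 := by
          gcongr <;> exact Nat.sub_le _ _
      _ = s ^ 248 := by ring
  have h4 : 2 ^ 28 ≤ s ^ 28 := Nat.pow_le_pow_left hq2 28
  have h5 : (s - 1) * 268435456 ≤ (s - 1) * s ^ 28 := Nat.mul_le_mul_left _ (by simpa using h4)
  refine big (s := s) (N := 249) (d := (s - 1) * s ^ 28) hp hq2 hd (by omega) ?_
  rw [H762.FineTools.card_aut hna, hO]
  calc _ ≤ s ^ 248 * s := Nat.mul_le_mul h1 hlt.le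
    _ = s ^ 249 := by ring

open Cfsg.Agent.H915.LD in
/-- **S3512, PB7.** -/
theorem deadP_chev {F : Type u} [Field F] [Finite F] {n p : ℕ} [Fact p.Prime] [CharP F p]
    {P : Subgroup (Matrix.GeneralLinearGroup (Fin n) F)} (hC : H915.LD.Core P) (hn : 13 ≤ n)
    (hp : p ∣ Nat.card (Soc P)) (hL : ¬ Cfsg.IsLieTypeChar p (Soc P)) (r : ℕ)
    (hT : Cfsg.IsExceptionalChevChar r (Soc P)) : DeadP p n (Soc P) := by
  have hpr : p ≠ r := by
    rintro rfl
    exact hL (Or.inr (Or.inr (Or.inr (Or.inr (Or.inr (Or.inr (Or.inl hT)))))))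
  obtain ⟨K, _, _, _, h⟩ := hT
  obtain ⟨hr, f, hf, hcard, hlt⟩ := exists_f (K := K) r
  have hpp : p.Prime := Fact.out
  have hq2 : 2 ≤ Fintype.card K := Fintype.one_lt_card
  have hsimp : IsSimpleGroup (Soc P) := hC.simple
  have hF : (r : F) ≠ 0 := by
    intro h0
    rw [CharP.cast_eq_zero_iff F p] at h0
    exact hpr ((Nat.prime_dvd_prime_iff_eq hpp hr).1 h0)
  have key : ∀ {T' : Type} [Group T'], (Soc P ≃* T') → ∀ {d : ℕ}, LS.{0, u, u} r d T' → d ≤ n := by
    intro T' _ e' d hls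
    exact H912.Bd.le_of_ls (LS.congr e'.symm hls) hF P hC.perfect (MulEquiv.refl _)
  have hdv : ∀ {T' : Type} [Group T'], (Soc P ≃* T') → p ∣ Nat.card T' := by
    intro T' _ e'
    rw [← Nat.card_congr e'.toEquiv]
    exact hp
  rcases h with ⟨h3, ⟨e'⟩⟩ | ⟨⟨e'⟩⟩ | ⟨⟨e'⟩⟩ | ⟨⟨e'⟩⟩ | ⟨⟨e'⟩⟩
  · exact (deadP_g2 r h3 hpp hpr (hdv e') hn (key e')).congr e'.symm
  · exact (deadP_f4 r hpp hpr (hdv e') (key e')).congr e'.symm
  · exact (deadP_e6 r hpp (key e')).congr e'.symm
  · exact (deadP_e7 r hpp (key e')).congr e'.symm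
  · exact (deadP_e8 r hpp (key e')).congr e'.symm

end Cfsg.Agent.H744.HT.ChevP
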