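import Cfsg.Agent.H638.HT.TwDead
import Cfsg.Agent.H744.HT.ChevP

/-!
helper744 (task 6022, S3512 PB8): twisted groups of exceptional type and the Tits group, cross characteristic `p ∣ |T|`,
degree at least 13: `deadP_twisted`.
-/

set_option autoImplicit false
set_option maxRecDepth 100000

namespace Cfsg.Agent.H744.HT.TwP

open Cfsg Cfsg.Agent.H203.LS Cfsg.Agent.H337.HT Cfsg.Agent.H744.HT Cfsg.Agent.H638.HT

universe u v w

/-! ### `³D₄(q)` -/

theorem deadP_3d4 {K : Type v} [Field K] [Fintype K] {q n p r : ℕ} (hrc : CharP K r) (hp : p.Prime)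
    (hpr : p ≠ r) (hq : IsPrimePow q) (hK : Fintype.card K = q ^ 3) (hpd : p ∣ Nat.card ↥(Lie.twistedD4 K q))
    (hd : (q - 1) * q ^ 4 ≤ n) : DeadP p n ↥(Lie.twistedD4 K q) := by
  obtain ⟨r', f, hr, hf, rfl⟩ := hq
  have hr : r'.Prime := hr.nat_prime
  have hfact : Fact r'.Prime := ⟨hr⟩
  have hq : IsPrimePow (r' ^ f) := ⟨r', f, hr.prime, hf, rfl⟩
  have hchar : CharP K r' := H203.LS.charP_of_card (n := f * 3) hr (by rw [hK, pow_mul])
  have hrr : r' = r := CharP.eq K hchar hrc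
  obtain ⟨hs, hna⟩ := S1071.result hq hK
  have hT := S1067.result hq hK
  have hout : Nat.card (Out ↥(Lie.twistedD4 K (r' ^ f))) = 3 * f :=
    S2129.result r' f (by rw [hK, ← pow_mul, mul_comm]) hf
  have hA := card_aut hs hna
  have h2 : 2 ≤ r' ^ f := hq.two_le
  have hfq : f < r' ^ f := Nat.lt_pow_self hr.one_lt
  have hf1 : r' ^ f = 2 → f = 1 ∧ r' = 2 := by
    intro h
    have h1 : f < 2 := by omega
    have h3 : f = 1 := by omega
    exact ⟨h3, by rwa [h3, pow_one] at h⟩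
  generalize hqq : r' ^ f = q at *
  rw [hout] at hA
  by_cases h3 : 3 ≤ q
  · have h8 : q ^ 8 + q ^ 4 + 1 ≤ q ^ 9 := by
      have e1 : q ^ 9 = q * q ^ 8 := by ring
      have e2 : 2 * q ^ 8 ≤ q * q ^ 8 := Nat.mul_le_mul_right _ h2
      have e3 : q ^ 4 + 1 ≤ q ^ 8 := by
        have : q ^ 4 < q ^ 8 := Nat.pow_lt_pow_right (by omega) (by norm_num)
        omega
      omega
    have h1 : Nat.card ↥(Lie.twistedD4 K q) ≤ q ^ 29 := by
      rw [hT]
      calc q ^ 12 * (q ^ 2 - 1) * (q ^ 6 - 1) * (q ^ 8 + q ^ 4 + 1) ≤ q ^ 12 * q ^ 2 * q ^ 6 * q ^ 9 :=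
            Nat.mul_le_mul (Nat.mul_le_mul (Nat.mul_le_mul_left _ (Nat.sub_le _ _)) (Nat.sub_le _ _)) h8
        _ = q ^ 29 := by ring
    have h4 : 3 ^ 4 ≤ q ^ 4 := Nat.pow_le_pow_left h3 4
    have h5 : (q - 1) * 81 ≤ (q - 1) * q ^ 4 := Nat.mul_le_mul_left _ (by simpa using h4)
    refine ChevP.big (s := q) (N := 31) (d := (q - 1) * q ^ 4) hp (by omega) hd (by omega) ?_
    rw [hA]
    calc 3 * f * Nat.card ↥(Lie.twistedD4 K q) ≤ q * q * q ^ 29 :=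
          Nat.mul_le_mul (Nat.mul_le_mul h3 hfq.le) h1
      _ = q ^ 31 := by ring
  · have h6 : q = 2 := by omega
    obtain ⟨hf', hr2⟩ := hf1 h6
    have hpr2 : p ≠ 2 := by rw [hrr] at hr2; rw [← hr2]; exact hpr
    subst h6
    rw [hf'] at hA
    have hT' : Nat.card ↥(Lie.twistedD4 K 2) = 211341312 := by rw [hT]; norm_num
    rw [hT'] at hA
    exact deadP_sieve 2 [3, 7, 13] (A := 634023936) (n₀ := 16) hT' (by rw [hA]) (by norm_num) TabP.t3d4_2 hp hpd hpr2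
      (by simpa using hd)

/-! ### `²E₆(q)` -/

theorem deadP_2e6 {K : Type v} [Field K] [Fintype K] {q n p r : ℕ} (hrc : CharP K r) (hp : p.Prime)
    (hpr : p ≠ r) (hq : IsPrimePow q) (hK : Fintype.card K = q ^ 2) (hpd : p ∣ Nat.card ↥(Lie.twistedE6 K q))
    (hd : (q - 1) * q ^ 6 ≤ n) : DeadP p n ↥(Lie.twistedE6 K q) := by
  obtain ⟨r', f, hr, hf, rfl⟩ := hq
  have hr : r'.Prime := hr.nat_prime
  have hfact : Fact r'.Prime := ⟨hr⟩
  have hq : IsPrimePow (r' ^ f) := ⟨r', f, hr.prime, hf, rfl⟩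
  have hchar : CharP K r' := H203.LS.charP_of_card (n := f * 2) hr (by rw [hK, pow_mul])
  have hrr : r' = r := CharP.eq K hchar hrc
  obtain ⟨hs, hna⟩ := S1070.result hq hK
  have hT := S1066.result hq hK
  have hout : Nat.card (Out ↥(Lie.twistedE6 K (r' ^ f))) = 2 * Nat.gcd 3 (r' ^ f + 1) * f :=
    S2130.result r' f (by rw [hK, ← pow_mul, mul_comm]) hf
  have hA := card_aut hs hna
  have h2 : 2 ≤ r' ^ f := hq.two_le
  have hfq : f < r' ^ f := Nat.lt_pow_self hr.one_lt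
  have hf1 : r' ^ f = 2 → f = 1 ∧ r' = 2 := by
    intro h
    have h1 : f < 2 := by omega
    have h3 : f = 1 := by omega
    exact ⟨h3, by rwa [h3, pow_one] at h⟩
  generalize hqq : r' ^ f = q at *
  rw [hout] at hA
  have hA' : Nat.card (MulAut ↥(Lie.twistedE6 K q)) =
      2 * f * (q ^ 36 * (q ^ 2 - 1) * (q ^ 5 + 1) * (q ^ 6 - 1) * (q ^ 8 - 1) * (q ^ 9 + 1) * (q ^ 12 - 1)) := by
    rw [hA, ← hT]; ring
  by_cases h3 : 3 ≤ q
  · have hbd : q ^ 36 * (q ^ 2 - 1) * (q ^ 5 + 1) * (q ^ 6 - 1) * (q ^ 8 - 1) * (q ^ 9 + 1) * (q ^ 12 - 1) ≤ q ^ 80 := by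
      have e5 : q ^ 5 + 1 ≤ q ^ 6 := by
        have : q ^ 5 < q ^ 6 := Nat.pow_lt_pow_right (by omega) (by norm_num)
        omega
      have e9 : q ^ 9 + 1 ≤ q ^ 10 := by
        have : q ^ 9 < q ^ 10 := Nat.pow_lt_pow_right (by omega) (by norm_num)
        omega
      calc _ ≤ q ^ 36 * q ^ 2 * q ^ 6 * q ^ 6 * q ^ 8 * q ^ 10 * q ^ 12 :=
            Nat.mul_le_mul (Nat.mul_le_mul (Nat.mul_le_mul (Nat.mul_le_mul (Nat.mul_le_mul
              (Nat.mul_le_mul_left _ (Nat.sub_le _ _)) e5) (Nat.sub_le _ _)) (Nat.sub_le _ _)) e9) (Nat.sub_le _ _)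
        _ = q ^ 80 := by ring
    have hA2 : Nat.card (MulAut ↥(Lie.twistedE6 K q)) ≤ q ^ 82 := by
      rw [hA']
      calc _ ≤ q * q * q ^ 80 := Nat.mul_le_mul (Nat.mul_le_mul h2 hfq.le) hbd
        _ = q ^ 82 := by ring
    have h4 : 3 ^ 6 ≤ q ^ 6 := Nat.pow_le_pow_left h3 6
    have h5 : (q - 1) * 729 ≤ (q - 1) * q ^ 6 := Nat.mul_le_mul_left _ (by simpa using h4)
    exact ChevP.big (s := q) (N := 82) (d := (q - 1) * q ^ 6) hp (by omega) hd (by omega) hA2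
  · have h6 : q = 2 := by omega
    obtain ⟨hf', hr2⟩ := hf1 h6
    have hpr2 : p ≠ 2 := by rw [hrr] at hr2; rw [← hr2]; exact hpr
    subst h6
    rw [hf'] at hA'
    have hT' : Nat.card ↥(Lie.twistedE6 K 2) = 76532479683774853939200 := by
      norm_num at hT
      omega
    exact deadP_sieve 2 [3, 5, 7, 11, 13, 17, 19] (A := 459194878102649123635200) (n₀ := 16) hT'
      (by rw [hA']; norm_num) (by norm_num) TabP.t2e6_2 hp hpd hpr2 (by
        have : 64 ≤ n := by simpa using hd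
        omega)

/-! ### `²F₄(q)` -/

theorem deadP_2f4 {F : Type v} [Field F] [Fintype F] {m n p : ℕ} (hp : p.Prime) (hm : 1 ≤ m)
    (hF : Fintype.card F = 2 ^ (2 * m + 1))
    (hd : (2 ^ (2 * m + 1) - 1) * (2 ^ (2 * m + 1)) ^ 2 ≤ n) : DeadP p n ↥(Lie.twistedF4 F (2 ^ m)) := by
  obtain ⟨hs, hna⟩ := S1072.result hm hF
  have hT := S1068.result hF
  have hout : Nat.card (Out ↥(Lie.twistedF4 F (2 ^ m))) ≤ 2 ^ (2 * m + 1) := by
    rw [S2128.result hm hF]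
    exact (Nat.lt_two_pow_self).le
  have hA := card_aut hs hna
  have h8 : 8 ≤ 2 ^ (2 * m + 1) := by
    calc 8 = 2 ^ 3 := by norm_num
      _ ≤ _ := Nat.pow_le_pow_right (by norm_num) (by omega)
  generalize 2 ^ (2 * m + 1) = q at *
  have e3 : q ^ 3 + 1 ≤ q ^ 4 := by
    have : q ^ 3 < q ^ 4 := Nat.pow_lt_pow_right (by omega) (by norm_num)
    omega
  have e6 : q ^ 6 + 1 ≤ q ^ 7 := by
    have : q ^ 6 < q ^ 7 := Nat.pow_lt_pow_right (by omega) (by norm_num)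
    omega
  have h1 : Nat.card ↥(Lie.twistedF4 F (2 ^ m)) ≤ q ^ 28 := by
    rw [hT]
    calc q ^ 12 * (q - 1) * (q ^ 3 + 1) * (q ^ 4 - 1) * (q ^ 6 + 1) ≤ q ^ 12 * q * q ^ 4 * q ^ 4 * q ^ 7 :=
          Nat.mul_le_mul (Nat.mul_le_mul (Nat.mul_le_mul (Nat.mul_le_mul_left _ (Nat.sub_le _ _)) e3)
            (Nat.sub_le _ _)) e6
      _ = q ^ 28 := by ring
  have h56 : (q - 1) * 64 ≤ (q - 1) * q ^ 2 := Nat.mul_le_mul_left _ (by
    have := Nat.pow_le_pow_left h8 2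
    simpa using this)
  refine ChevP.big (s := q) (N := 29) (d := (q - 1) * q ^ 2) hp (by omega) hd (by omega) ?_
  rw [hA]
  calc _ ≤ q * q ^ 28 := Nat.mul_le_mul hout h1
    _ = q ^ 29 := by ring

/-! ### `Sz(q)`, `²G₂(q)` -/

theorem num12 {m : ℕ} (h3 : 3 ≤ m) : 12 * (2 * m + 1) + 4 ≤ 2 ^ (2 * m + 1) := by
  induction m, h3 using Nat.le_induction with
  | base => norm_num
  | succ m hm3 ih =>
    have : 2 ^ (2 * (m + 1) + 1) = 4 * 2 ^ (2 * m + 1) := by ring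
    omega

theorem num36 {m : ℕ} (h3 : 2 ≤ m) : 36 * (2 * m + 1) + 4 ≤ 3 ^ (2 * m + 1) := by
  induction m, h3 using Nat.le_induction with
  | base => norm_num
  | succ m hm3 ih =>
    have : 3 ^ (2 * (m + 1) + 1) = 9 * 3 ^ (2 * m + 1) := by ring
    omega

theorem deadP_sz {F : Type v} [Field F] [Fintype F] {m n p : ℕ} (hp : p.Prime) (hp2 : p ≠ 2) (hm : 1 ≤ m)
    (hF : Fintype.card F = 2 ^ (2 * m + 1)) (hna : ¬ IsMulCommutative ↥(Lie.Sz F (2 ^ (m + 1))))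
    (hpd : p ∣ Nat.card ↥(Lie.Sz F (2 ^ (m + 1)))) (hn : 13 ≤ n) (hd : 2 ^ (2 * m + 1) - 1 ≤ n) :
    DeadP p n ↥(Lie.Sz F (2 ^ (m + 1))) := by
  have hs := S1162.result hm hF
  have hT := (S1163.result hm hF).1
  have hout := S2126.result hm hF
  have hA := card_aut hs hna
  rw [hout] at hA
  have hm3 : m = 1 ∨ m = 2 ∨ 3 ≤ m := by omega
  rcases hm3 with rfl | rfl | hm3
  · have hT' : Nat.card ↥(Lie.Sz F (2 ^ (1 + 1))) = 29120 := by rw [hT]; norm_num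
    rw [hT'] at hA
    exact deadP_sieve 2 [5, 7, 13] (n₀ := 13) (A := 87360) hT' (by rw [hA]) (by norm_num) TabP.sz_8 hp hpd hp2 hn
  · have hT' : Nat.card ↥(Lie.Sz F (2 ^ (2 + 1))) = 32537600 := by rw [hT]; norm_num
    rw [hT'] at hA
    exact deadP_sieve 2 [5, 31, 41] (n₀ := 31) (A := 162688000) hT' (by rw [hA]) (by norm_num) TabP.sz_32 hp hpd hp2
      (by simpa using hd)
  · have h7 := num12 hm3
    have hmq : 2 * m + 1 ≤ 2 ^ (2 * m + 1) := Nat.lt_two_pow_self.le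
    obtain ⟨q, hqd⟩ : ∃ q, q = 2 ^ (2 * m + 1) := ⟨_, rfl⟩
    have h1 : Nat.card (MulAut ↥(Lie.Sz F (2 ^ (m + 1)))) ≤ q ^ 6 := by
      rw [hA, hT, ← hqd]
      rw [← hqd] at hmq
      obtain ⟨k, rfl⟩ : ∃ k, q = k + 1 := ⟨q - 1, by omega⟩
      rw [Nat.add_sub_cancel]
      calc (2 * m + 1) * ((k + 1) ^ 2 * k * ((k + 1) ^ 2 + 1)) = (2 * m + 1) * ((k + 1) ^ 2 * (k * ((k + 1) ^ 2 + 1))) := by
            ring
        _ ≤ (k + 1) * ((k + 1) ^ 2 * (k + 1) ^ 3) :=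
            Nat.mul_le_mul hmq (Nat.mul_le_mul_left _ (by nlinarith [sq_nonneg k]))
        _ = (k + 1) ^ 6 := by ring
    refine deadP_of_pow (b := 2) hp (by omega) hp.two_le h1 Nat.card_pos ?_
    calc 2 * (q ^ 6) ^ 2 = 2 * 2 ^ (12 * (2 * m + 1)) := by
          rw [hqd, ← pow_mul, ← pow_mul]
          congr 2
          ring
      _ = 2 ^ (12 * (2 * m + 1) + 1) := (pow_succ' _ _).symm
      _ ≤ 2 ^ (n - 2) := Nat.pow_le_pow_right (by norm_num) (by omega)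

theorem deadP_ree {F : Type v} [Field F] [Fintype F] {m n p : ℕ} (hp : p.Prime) (hp3 : p ≠ 3) (hm : 1 ≤ m)
    (hF : Fintype.card F = 3 ^ (2 * m + 1)) (hpd : p ∣ Nat.card ↥(Lie.twistedG2 F (3 ^ m)))
    (hd : 3 ^ (2 * m + 1) - 1 ≤ n) : DeadP p n ↥(Lie.twistedG2 F (3 ^ m)) := by
  obtain ⟨hs, hna⟩ := S1073.result hm hF
  have hT := S1069.result hF
  have hout := S2127.result hm hF
  have hA := card_aut hs hna
  rw [hout] at hA
  have hm3 : m = 1 ∨ 2 ≤ m := by omega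
  rcases hm3 with rfl | hm3
  · have hT' : Nat.card ↥(Lie.twistedG2 F (3 ^ 1)) = 10073444472 := by rw [hT]; norm_num
    rw [hT'] at hA
    exact deadP_sieve 3 [2, 7, 13, 19, 37] (n₀ := 26) (A := 30220333416) hT' (by rw [hA]) (by norm_num) TabP.ree_27
      hp hpd hp3 (by simpa using hd)
  · have h7 := num36 hm3
    have hmq : 2 * m + 1 ≤ 3 ^ (2 * m + 1) := (Nat.lt_pow_self (by norm_num)).le
    obtain ⟨q, hqd⟩ : ∃ q, q = 3 ^ (2 * m + 1) := ⟨_, rfl⟩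
    have h1 : Nat.card (MulAut ↥(Lie.twistedG2 F (3 ^ m))) ≤ q ^ 8 := by
      rw [hA, hT, ← hqd]
      rw [← hqd] at hmq
      obtain ⟨k, rfl⟩ : ∃ k, q = k + 1 := ⟨q - 1, by omega⟩
      rw [Nat.add_sub_cancel]
      calc (2 * m + 1) * ((k + 1) ^ 3 * k * ((k + 1) ^ 3 + 1)) = (2 * m + 1) * ((k + 1) ^ 3 * (k * ((k + 1) ^ 3 + 1))) := by
            ring
        _ ≤ (k + 1) * ((k + 1) ^ 3 * (k + 1) ^ 4) :=
            Nat.mul_le_mul hmq (Nat.mul_le_mul_left _ (by nlinarith [sq_nonneg k, pow_nonneg (Nat.zero_le k) 3]))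
        _ = (k + 1) ^ 8 := by ring
    refine deadP_of_pow (b := 2) hp (by omega) hp.two_le h1 Nat.card_pos ?_
    calc 2 * (q ^ 8) ^ 2 = 2 * 3 ^ (16 * (2 * m + 1)) := by
          rw [hqd, ← pow_mul, ← pow_mul]
          congr 2
          ring
      _ ≤ 2 * (2 ^ 2) ^ (16 * (2 * m + 1)) := Nat.mul_le_mul_left _ (Nat.pow_le_pow_left (by norm_num) _)
      _ = 2 ^ (32 * (2 * m + 1) + 1) := by
          rw [← pow_mul, pow_succ, mul_comm]
          congr 2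
          ring
      _ ≤ 2 ^ (n - 2) := Nat.pow_le_pow_right (by norm_num) (by omega)

/-! ### The Tits group -/

theorem tits_a : chkP 2 [3, 5, 13] 17971200 35942400 16 = true := by decide +kernel

theorem tits_b : chkP 3 [2, 5, 13] 17971200 35942400 13 = true := by decide +kernel

theorem deadP_tits {T : Type v} [Group T] {p n : ℕ} (hp : p.Prime) (h : Lie.IsoTits T) (hs : IsSimpleGroup T)
    (hna : ¬ IsMulCommutative T) (hT : Nat.card T = 17971200) (hpd : p ∣ Nat.card T) (hn : 13 ≤ n)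
    (hd : p ≠ 2 → 16 ≤ n) : DeadP p n T := by
  have hfin : Finite T := Nat.finite_of_card_ne_zero (by rw [hT]; norm_num)
  have hA := card_aut hs hna
  have hout : Nat.card (Out T) ≤ 2 := H867.TitsOut.card_out_le h
  have hpos : 0 < Nat.card (Out T) := Nat.card_pos
  have h12 : Nat.card (Out T) = 1 ∨ Nat.card (Out T) = 2 := by omega
  rw [hT] at hA
  have hdvd : Nat.card (MulAut T) ∣ 35942400 := by
    rcases h12 with h | h
    · rw [hA, h]
      norm_num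
    · rw [hA, h]
  by_cases h2 : p = 2
  · exact deadP_sieve 3 [2, 5, 13] (n₀ := 13) (A := 35942400) hT hdvd (by norm_num) tits_b hp hpd (by omega) hn
  · exact deadP_sieve 2 [3, 5, 13] (n₀ := 16) (A := 35942400) hT hdvd (by norm_num) tits_a hp hpd h2 (hd h2)

/-! ### The task -/

open Cfsg.Agent.H915.LD in
/-- **S3512, PB8.** -/
theorem deadP_twisted {F : Type u} [Field F] [Finite F] {n p : ℕ} [Fact p.Prime] [CharP F p]
    {P : Subgroup (Matrix.GeneralLinearGroup (Fin n) F)} (hC : H915.LD.Core P) (hn : 13 ≤ n)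
    (hp : p ∣ Nat.card (Soc P)) (hL : ¬ Cfsg.IsLieTypeChar p (Soc P))
    (hT : (∃ r, Cfsg.IsTwistedE6D4Char r (Soc P)) ∨ Cfsg.Lie.IsoSuzuki (Soc P) ∨ Cfsg.Lie.Iso2F4 (Soc P) ∨
      Cfsg.Lie.IsoRee (Soc P) ∨ Cfsg.Lie.IsoTits (Soc P)) : DeadP p n (Soc P) := by
  have hsim : IsSimpleGroup (Soc P) := hC.simple
  have hpp : p.Prime := Fact.out
  have key : ∀ {r d : ℕ} {T' : Type} [Group T'], r.Prime → p ≠ r → LS.{0, u, u} r d T' → (Soc P ≃* T') → d ≤ n := by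
    intro r d T' _ hr hpr hls e'
    have hrF : (r : F) ≠ 0 := by
      intro h0
      exact hpr ((Nat.prime_dvd_prime_iff_eq hpp hr).1 ((CharP.cast_eq_zero_iff F p r).1 h0))
    exact H912.Bd.le_of_ls (LS.congr e'.symm hls) hrF P hC.perfect (MulEquiv.refl _)
  have hdv : ∀ {T' : Type} [Group T'], (Soc P ≃* T') → p ∣ Nat.card T' := by
    intro T' _ e'
    rw [← Nat.card_congr e'.toEquiv]
    exact hp
  rcases hT with hT | hT | hT | hT | e0
  · obtain ⟨r, hT⟩ := hT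
    have hpr : p ≠ r := by
      rintro rfl
      exact hL (Or.inr (Or.inr (Or.inr (Or.inr (Or.inr (Or.inr (Or.inr (Or.inl hT))))))))
    obtain ⟨K, _, _, hrc, q, hq, h⟩ := hT
    have hr : r.Prime := (CharP.char_is_prime_or_zero K r).resolve_right (CharP.char_ne_zero_of_finite K r)
    have : Fact r.Prime := ⟨hr⟩
    rcases h with ⟨hK, ⟨e'⟩⟩ | ⟨hK, ⟨e'⟩⟩
    · exact (deadP_2e6 hrc hpp hpr hq hK (hdv e') (key hr hpr (TwE6.ls hq hK) e')).congr e'.symm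
    · exact (deadP_3d4 hrc hpp hpr hq hK (hdv e') (key hr hpr (TwD4.ls hq hK) e')).congr e'.symm
  · have hpr : p ≠ 2 := fun h => hL (Or.inr (Or.inr (Or.inr (Or.inr (Or.inr (Or.inr (Or.inr (Or.inr
      (Or.inl ⟨h, hT⟩)))))))))
    obtain ⟨K, _, _, m, hm, hK, ⟨e'⟩⟩ := hT
    have h := key Nat.prime_two hpr (LS.sz hm hK) e'
    rw [Nat.card_eq_fintype_card, hK] at h
    refine (deadP_sz hpp hpr hm hK ?_ (hdv e') hn h).congr e'.symm
    intro hcomm
    apply hC.nonabelian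
    refine ⟨⟨fun a b => e'.injective ?_⟩⟩
    rw [map_mul, map_mul]
    exact hcomm.1.comm _ _
  · have hpr : p ≠ 2 := fun h => hL (Or.inr (Or.inr (Or.inr (Or.inr (Or.inr (Or.inr (Or.inr (Or.inr (Or.inr
      (Or.inl ⟨h, hT⟩))))))))))
    obtain ⟨K, _, _, m, hm, hK, ⟨e'⟩⟩ := hT
    have h := key Nat.prime_two hpr (TwF4.ls hm hK) e'
    rw [Nat.card_eq_fintype_card, hK] at h
    exact (deadP_2f4 hpp hm hK h).congr e'.symm
  · have hpr : p ≠ 3 := fun h => hL (Or.inr (Or.inr (Or.inr (Or.inr (Or.inr (Or.inr (Or.inr (Or.inr (Or.inr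
      (Or.inr ⟨h, hT⟩))))))))))
    obtain ⟨K, _, _, m, hm, hK, ⟨e'⟩⟩ := hT
    have h := key Nat.prime_three hpr (LS.ree hm hK) e'
    rw [Nat.card_eq_fintype_card, hK] at h
    exact (deadP_ree hpp hpr hm hK (hdv e') h).congr e'.symm
  · have hT' : Nat.card (Soc P) = 17971200 := by
      obtain ⟨e'⟩ := e0
      rw [Nat.card_congr e'.toEquiv, S1074.result.2.2.2]
      norm_num
    refine deadP_tits hpp e0 hsim hC.nonabelian hT' hp hn fun h2 => ?_
    obtain ⟨e'⟩ := e0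
    exact key Nat.prime_two h2 H95.LSx.Tits.ls e'

end Cfsg.Agent.H744.HT.TwP
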